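import Groth.Agent.RelTensor16.Mul
import Groth.Agent.RelTildeX.Glue
import Groth.Agent.RelTildeX.Invertible
import Groth.Agent.H23.TensorDesc
import Groth.Agent.H23.ModLoc
import Groth.Agent.H23.PicMul
import Groth.Agent.H28.BoxSections

/-!
# `M(n)~` on a relative `Proj` is `M~ ⊗ O(n)`
-/

set_option autoImplicit false
set_option backward.isDefEq.respectTransparency false
set_option backward.isDefEq.respectTransparency.types false
set_option linter.unusedSectionVars false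
set_option linter.style.haveILetI false
set_option maxHeartbeats 1600000

universe u

open CategoryTheory CategoryTheory.Limits AlgebraicGeometry TopologicalSpace Opposite
open scoped HomogeneousIdeal

noncomputable section

namespace Groth.Agent.RelTensor16

open Groth.Agent Groth.Agent.QCoh

variable {Y P : Scheme.{u}} {𝒮 : RelProj.QCGrAlg Y} {p : P ⟶ Y}
  {chart : ∀ (U : Y.Opens) (hU : IsAffineOpen U), (((p ⁻¹ᵁ U : P.Opens) : Scheme.{u}) ≅ Proj (𝒮.deg U hU))}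
  {ℳ : RelProj.GrModule 𝒮} {n : ℤ} {F F' L : P.Modules}
  {lam : ∀ (U : Y.Opens) (hU : IsAffineOpen U),
      F ⟶ (Scheme.Modules.pushforward (RelProj.emb p chart U hU)).obj (GrMod.tilde (𝒮.deg U hU) (ℳ.deg U hU) 0)}
  {lam' : ∀ (U : Y.Opens) (hU : IsAffineOpen U),
      F' ⟶ (Scheme.Modules.pushforward (RelProj.emb p chart U hU)).obj (GrMod.tilde (𝒮.deg U hU) (ℳ.deg U hU) n)}
  {lamL : ∀ (U : Y.Opens) (hU : IsAffineOpen U),
      L ⟶ (Scheme.Modules.pushforward (RelProj.emb p chart U hU)).obj (GrTwist.twist (𝒮.deg U hU) n)}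
  (hP : RelProj.IsRelProj 𝒮 p chart)
  (hF : RelProj.IsRelTilde 𝒮 p chart ℳ 0 F lam) (hF' : RelProj.IsRelTilde 𝒮 p chart ℳ n F' lam')
  (hL : RelProj.IsRelTwist 𝒮 p chart n L lamL)

/-- A family of chart sections compatible with the restrictions to basic opens. -/
def Compat {W : P.Opens}
    (σ : ∀ (U : Y.Opens) (hU : IsAffineOpen U),
      Γ(GrMod.tilde (𝒮.deg U hU) (ℳ.deg U hU) n, RelProj.emb p chart U hU ⁻¹ᵁ W)) : Prop :=
  ∀ (U : Y.Opens) (hU : IsAffineOpen U) (r : Γ(Y, U))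
    (y : ProjectiveSpectrum (𝒮.deg (Y.basicOpen r) (hU.basicOpen r)))
    (hy : (RelProj.emb p chart (Y.basicOpen r) (hU.basicOpen r)).base y ∈ W)
    (hy' : (RelProj.emb p chart U hU).base (ProjectiveSpectrum.comap
      (𝒮.res hU (hU.basicOpen r) (Y.basicOpen_le r)) (𝒮.irrelevant_le_map U hU r) y) ∈ W),
    GrMod.val (V := RelProj.emb p chart (Y.basicOpen r) (hU.basicOpen r) ⁻¹ᵁ W)
        (σ (Y.basicOpen r) (hU.basicOpen r)) ⟨y, hy⟩ =
      GrMod.locModMap (𝒮.res hU (hU.basicOpen r) (Y.basicOpen_le r)) (𝒮.irrelevant_le_map U hU r)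
        (ℳ.res hU (hU.basicOpen r) (Y.basicOpen_le r)) y
        (GrMod.val (V := RelProj.emb p chart U hU ⁻¹ᵁ W) (σ U hU) ⟨_, hy'⟩)

include hF' in
lemma eq_of_val {W : P.Opens} {t t' : Γ(F', W)}
    (h : ∀ (U : Y.Opens) (hU : IsAffineOpen U) (y : (RelProj.emb p chart U hU ⁻¹ᵁ W : _)),
      GrMod.val (V := RelProj.emb p chart U hU ⁻¹ᵁ W) ((lam' U hU).app W t) y =
        GrMod.val (V := RelProj.emb p chart U hU ⁻¹ᵁ W) ((lam' U hU).app W t') y) : t = t' := by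
  refine sub_eq_zero.1 (eq_zero_of_locally W _ fun x hx => ?_)
  obtain ⟨_, ⟨U, hU, rfl⟩, hxU, -⟩ := Y.isBasis_affineOpens.exists_subset_of_mem_open
    (Set.mem_univ (p x)) isOpen_univ
  refine ⟨W ⊓ p ⁻¹ᵁ U, homOfLE inf_le_left, ⟨hx, hxU⟩, ?_⟩
  rw [map_sub, sub_eq_zero]
  refine (hF'.bijective U hU _ inf_le_right).1 ?_
  rw [map_app_comm, map_app_comm, GrModX.ext_val _ _ (h U hU)]

include hP hF' in
theorem exists_section {W : P.Opens}
    {σ : ∀ (U : Y.Opens) (hU : IsAffineOpen U),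
      Γ(GrMod.tilde (𝒮.deg U hU) (ℳ.deg U hU) n, RelProj.emb p chart U hU ⁻¹ᵁ W)} (hσ : Compat σ) :
    ∃ t : Γ(F', W), ∀ (U : Y.Opens) (hU : IsAffineOpen U), (lam' U hU).app W t = σ U hU := by
  have hdown : ∀ (A : Y.Opens) (hA : IsAffineOpen A) (r : Γ(Y, A)) (D : Y.Opens) (hD : IsAffineOpen D),
      D = Y.basicOpen r → ∀ (W' : P.Opens) (hW' : W' ≤ W) (t : Γ(F', W')),
      (∀ y : (RelProj.emb p chart A hA ⁻¹ᵁ W' : _),
        GrMod.val (V := RelProj.emb p chart A hA ⁻¹ᵁ W') ((lam' A hA).app W' t) y =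
          GrMod.val (V := RelProj.emb p chart A hA ⁻¹ᵁ W) (σ A hA) ⟨y.1, hW' y.2⟩) →
      ∀ y : (RelProj.emb p chart D hD ⁻¹ᵁ W' : _),
        GrMod.val (V := RelProj.emb p chart D hD ⁻¹ᵁ W') ((lam' D hD).app W' t) y =
          GrMod.val (V := RelProj.emb p chart D hD ⁻¹ᵁ W) (σ D hD) ⟨y.1, hW' y.2⟩ := by
    rintro A hA r _ hD rfl W' hW' t ht ⟨y, hy⟩
    have hy' : (RelProj.emb p chart A hA).base (ProjectiveSpectrum.comap
        (𝒮.res hA (hA.basicOpen r) (Y.basicOpen_le r)) (𝒮.irrelevant_le_map A hA r) y) ∈ W' := by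
      have h2 := congrArg (fun ψ : Proj (𝒮.deg (Y.basicOpen r) (hA.basicOpen r)) ⟶ P => ψ.base y)
        (RelProj.map_res_emb hP A hA r)
      exact (show _ = _ from h2).symm ▸ hy
    exact (hF'.compat A hA r W' t y hy hy').trans
      ((congrArg _ (ht ⟨_, hy'⟩)).trans (hσ A hA r y (hW' hy) (hW' hy')).symm)
  have hloc : ∀ U : Y.affineOpens, ∃ t : Γ(F', W ⊓ p ⁻¹ᵁ U.1), ∀ (V : Y.Opens) (hV : IsAffineOpen V)
      (y : (RelProj.emb p chart V hV ⁻¹ᵁ (W ⊓ p ⁻¹ᵁ U.1) : _)),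
      GrMod.val (V := RelProj.emb p chart V hV ⁻¹ᵁ (W ⊓ p ⁻¹ᵁ U.1)) ((lam' V hV).app _ t) y =
        GrMod.val (V := RelProj.emb p chart V hV ⁻¹ᵁ W) (σ V hV) ⟨y.1, y.2.1⟩ := by
    rintro ⟨U, hU⟩
    obtain ⟨t, ht⟩ := (hF'.bijective U hU (W ⊓ p ⁻¹ᵁ U) inf_le_right).2
      ((GrMod.tilde (𝒮.deg U hU) (ℳ.deg U hU) n).presheaf.map
        (homOfLE ((RelProj.emb p chart U hU).preimage_mono (inf_le_left : W ⊓ p ⁻¹ᵁ U ≤ W))).op (σ U hU))
    refine ⟨t, fun V hV ⟨y, hy⟩ => ?_⟩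
    let x : P := (RelProj.emb p chart V hV).base y
    have hxV : x ∈ p ⁻¹ᵁ V := by rw [← RelTildeX.opensRange_emb p chart V hV]; exact ⟨y, rfl⟩
    obtain ⟨r, r', e, hxr⟩ := exists_basicOpen_le_affine_inter hU hV (p.base x) ⟨hy.2, hxV⟩
    let W'' := (W ⊓ p ⁻¹ᵁ U) ⊓ p ⁻¹ᵁ Y.basicOpen r
    have hWW : W'' ≤ W := inf_le_left.trans inf_le_left
    have hWV : W'' ≤ p ⁻¹ᵁ V := inf_le_right.trans (p.preimage_mono (e.le.trans (Y.basicOpen_le r')))
    obtain ⟨t'', ht''⟩ := (hF'.bijective V hV W'' hWV).2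
      ((GrMod.tilde (𝒮.deg V hV) (ℳ.deg V hV) n).presheaf.map
        (homOfLE ((RelProj.emb p chart V hV).preimage_mono hWW)).op (σ V hV))
    let tr := F'.presheaf.map (homOfLE (inf_le_left : W'' ≤ W ⊓ p ⁻¹ᵁ U)).op t
    have h1 := hdown U hU r (Y.basicOpen r) (hU.basicOpen r) rfl W'' hWW tr fun z => by
      show GrMod.val (V := RelProj.emb p chart U hU ⁻¹ᵁ W'') ((lam' U hU).app W''
        (F'.presheaf.map (homOfLE (inf_le_left : W'' ≤ W ⊓ p ⁻¹ᵁ U)).op t)) z = _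
      rw [map_app_comm, ht]
      rfl
    have h2 := hdown V hV r' (Y.basicOpen r) (hU.basicOpen r) e W'' hWW t'' fun z => by
      rw [ht'']
      rfl
    have heq : t'' = tr := (hF'.bijective _ (hU.basicOpen r) W'' inf_le_right).1
      (GrModX.ext_val _ _ fun z => (h2 z).trans (h1 z).symm)
    rw [heq, show tr = F'.presheaf.map (homOfLE (inf_le_left : W'' ≤ W ⊓ p ⁻¹ᵁ U)).op t from rfl,
      map_app_comm] at ht''
    exact congrArg (fun q => GrMod.val (V := RelProj.emb p chart V hV ⁻¹ᵁ W'') q ⟨y, hy, hxr⟩) ht''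
  choose t ht using hloc
  obtain ⟨T, hT, -⟩ := TopCat.Sheaf.existsUnique_gluing' ⟨F'.presheaf, F'.isSheaf⟩
    (fun U : Y.affineOpens => W ⊓ p ⁻¹ᵁ U.1) W (fun _ => homOfLE inf_le_left)
    (fun x hx => by
      obtain ⟨_, ⟨U, hU, rfl⟩, hxU, -⟩ := Y.isBasis_affineOpens.exists_subset_of_mem_open
        (Set.mem_univ (p x)) isOpen_univ
      exact Opens.mem_iSup.2 ⟨⟨U, hU⟩, hx, hxU⟩) t (fun U V => by
      refine eq_of_val hF' fun A hA z => ?_
      erw [map_app_comm, map_app_comm]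
      exact (ht U A hA ⟨z.1, z.2.1⟩).trans (ht V A hA ⟨z.1, z.2.2⟩).symm)
  refine ⟨T, fun V hV => GrModX.ext_val _ _ fun ⟨y, hy⟩ => ?_⟩
  obtain ⟨_, ⟨U, hU, rfl⟩, hxU, -⟩ := Y.isBasis_affineOpens.exists_subset_of_mem_open
    (Set.mem_univ (p.base ((RelProj.emb p chart V hV).base y))) isOpen_univ
  have h := ht ⟨U, hU⟩ V hV ⟨y, hy, hxU⟩
  rw [show t ⟨U, hU⟩ = F'.presheaf.map (homOfLE inf_le_left).op T from (hT ⟨U, hU⟩).symm, map_app_comm] at h
  exact h

/-- The chart products of two sections. -/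
def prodFam {W : P.Opens} (l : Γ(L, W)) (s : Γ(F, W)) (U : Y.Opens) (hU : IsAffineOpen U) :
    Γ(GrMod.tilde (𝒮.deg U hU) (ℳ.deg U hU) n, RelProj.emb p chart U hU ⁻¹ᵁ W) :=
  mulSect (𝒮.deg U hU) (ℳ.deg U hU) (add_zero n) ((lamL U hU).app W l) ((lam U hU).app W s)

include hF hL in
lemma compat_prodFam {W : P.Opens} (l : Γ(L, W)) (s : Γ(F, W)) :
    Compat (prodFam (lam := lam) (lamL := lamL) l s) := fun U hU r y hy hy' => by
  rw [prodFam, prodFam, val_mulSect, val_mulSect, hF.compat U hU r W s y hy hy',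
    hL.compat U hU r W l y hy hy', locModMap_smul]

include hP hF hF' hL in
/-- The product of sections of `O(n)` and of `M~`. -/
def prodRel {W : P.Opens} (l : Γ(L, W)) (s : Γ(F, W)) : Γ(F', W) :=
  (exists_section hP hF' (compat_prodFam hF hL l s)).choose

lemma app_prodRel {W : P.Opens} (l : Γ(L, W)) (s : Γ(F, W)) (U : Y.Opens) (hU : IsAffineOpen U) :
    (lam' U hU).app W (prodRel hP hF hF' hL l s) = prodFam (lam := lam) (lamL := lamL) l s U hU :=
  (exists_section hP hF' (compat_prodFam hF hL l s)).choose_spec U hU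

/-- The product as a bilinear family. -/
def bilin : H23.TensorDesc.Bilin L F F' where
  b _ l s := prodRel hP hF hF' hL l s
  add_left W l l' s := eq_of_val hF' fun U hU y => by
    rw [map_add, app_prodRel, app_prodRel, app_prodRel, prodFam, prodFam, prodFam, val_mulSect, map_add]
    exact (add_smul _ _ _).trans rfl
  smul_left W c l s := eq_of_val hF' fun U hU y => by
    rw [Scheme.Modules.Hom.app_smul, app_prodRel, app_prodRel, prodFam, prodFam, val_mulSect,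
      Scheme.Modules.Hom.app_smul]
    exact mul_smul (((RelProj.emb p chart U hU).app W c).1 y).val _ _
  add_right W l s s' := eq_of_val hF' fun U hU y => by
    rw [map_add, app_prodRel, app_prodRel, app_prodRel, prodFam, prodFam, prodFam, val_mulSect, map_add]
    exact (smul_add _ _ _).trans rfl
  smul_right W c l s := eq_of_val hF' fun U hU y => by
    rw [Scheme.Modules.Hom.app_smul, app_prodRel, app_prodRel, prodFam, prodFam, val_mulSect,
      Scheme.Modules.Hom.app_smul]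
    exact smul_comm _ (((RelProj.emb p chart U hU).app W c).1 y).val _
  res {W W'} h l s := eq_of_val hF' fun U hU y => by
    rw [map_app_comm, app_prodRel, app_prodRel, prodFam, prodFam, val_mulSect, map_app_comm, map_app_comm]
    rfl

/-- A morphism to a direct image is semilinear on sections. -/
lemma app_smul_pushforward {X X' : Scheme.{u}} (e : X ⟶ X') {M : X'.Modules} {N : X.Modules}
    (φ : M ⟶ (Scheme.Modules.pushforward e).obj N) (V : X'.Opens) (r : Γ(X', V)) (m : Γ(M, V)) :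
    φ.app V (r • m) = e.app V r • (show Γ(N, e ⁻¹ᵁ V) from φ.app V m) :=
  Scheme.Modules.Hom.app_smul φ r m

/-- Multiples of an invertible fraction. -/
lemma bijective_smul_fracSect {A σ : Type u} [CommRing A] [SetLike σ A] [AddSubgroupClass σ A] {𝒜 : ℕ → σ}
    [GradedRing 𝒜] {m : ℤ} {V : (Proj 𝒜).Opens} (φ : GrTwistX.UnitFrac (𝒜 := 𝒜) m V) :
    Function.Bijective (fun c : Γ(Proj 𝒜, V) =>
      c • (show Γ(GrTwist.twist 𝒜 m, V) from GrTwistX.fracSect φ)) :=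
  GrTwistX.trivMap_bijective φ

omit lam lam' in
lemma app_res_frame {U : Y.Opens} {hU : IsAffineOpen U} {W₀ : P.Opens} {l₀ : Γ(L, W₀)}
    {fr : GrTwistX.UnitFrac (𝒜 := 𝒮.deg U hU) n (RelProj.emb p chart U hU ⁻¹ᵁ W₀)}
    (hl₀ : (lamL U hU).app W₀ l₀ = GrTwistX.fracSect fr) {V : P.Opens} (hV : V ≤ W₀) :
    (lamL U hU).app V (AModX.res L hV l₀) =
      GrTwistX.fracSect (fr.res ((RelProj.emb p chart U hU).preimage_mono hV)) :=
  (map_app_comm (lamL U hU) (homOfLE hV) l₀).trans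
    (congrArg (fun q => ((Scheme.Modules.pushforward (RelProj.emb p chart U hU)).obj
      (GrTwist.twist (𝒮.deg U hU) n)).presheaf.map (homOfLE hV).op q) hl₀)

include hL in
lemma isFrame_of_frac {U : Y.Opens} {hU : IsAffineOpen U} {W₀ : P.Opens} (hW₀ : W₀ ≤ p ⁻¹ᵁ U) {l₀ : Γ(L, W₀)}
    {fr : GrTwistX.UnitFrac (𝒜 := 𝒮.deg U hU) n (RelProj.emb p chart U hU ⁻¹ᵁ W₀)}
    (hl₀ : (lamL U hU).app W₀ l₀ = GrTwistX.fracSect fr) : InvX.IsFrame l₀ := fun V hV => by
  let emb := RelProj.emb p chart U hU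
  have hb := bijective_smul_fracSect (fr.res (emb.preimage_mono hV))
  haveI : IsIso (emb.app V) :=
    Scheme.Hom.isIso_app emb V ((hV.trans hW₀).trans (RelTildeX.opensRange_emb p chart U hU).ge)
  have he : Function.Bijective (emb.app V) := ConcreteCategory.bijective_of_isIso (emb.app V)
  have hres := app_res_frame hl₀ hV
  have hlam := hL.bijective U hU V (hV.trans hW₀)
  have hc : ∀ r : Γ(P, V), (lamL U hU).app V (r • AModX.res L hV l₀) =
      emb.app V r • (show Γ(GrTwist.twist (𝒮.deg U hU) n, emb ⁻¹ᵁ V) from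
        GrTwistX.fracSect (fr.res (emb.preimage_mono hV))) := fun r =>
    (app_smul_pushforward emb (lamL U hU) V r _).trans (congrArg (emb.app V r • ·) hres)
  exact ⟨fun a b h => he.1 (hb.1 (((hc a).symm.trans (congrArg _ h)).trans (hc b))), fun z => by
    obtain ⟨q, hq⟩ := hb.2 ((lamL U hU).app V z)
    obtain ⟨r, rfl⟩ := he.2 q
    exact ⟨r, hlam.1 ((hc r).trans hq)⟩⟩

lemma bijective_prodRel {U : Y.Opens} {hU : IsAffineOpen U} {W₀ : P.Opens} (hW₀ : W₀ ≤ p ⁻¹ᵁ U) {l₀ : Γ(L, W₀)}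
    {fr : GrTwistX.UnitFrac (𝒜 := 𝒮.deg U hU) n (RelProj.emb p chart U hU ⁻¹ᵁ W₀)}
    (hl₀ : (lamL U hU).app W₀ l₀ = GrTwistX.fracSect fr) {V : P.Opens} (hV : V ≤ W₀) :
    Function.Bijective (fun s : Γ(F, V) => prodRel hP hF hF' hL (AModX.res L hV l₀) s) := by
  have h1 := bijective_mulSect (𝒮.deg U hU) (ℳ.deg U hU) (add_zero n) (b := 0)
    (fr.res ((RelProj.emb p chart U hU).preimage_mono hV))
  have h2 := hF.bijective U hU V (hV.trans hW₀)
  have h3 := hF'.bijective U hU V (hV.trans hW₀)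
  have hc : ∀ s : Γ(F, V), (lam' U hU).app V (prodRel hP hF hF' hL (AModX.res L hV l₀) s) =
      mulSect (𝒮.deg U hU) (ℳ.deg U hU) (add_zero n)
        (GrTwistX.fracSect (fr.res ((RelProj.emb p chart U hU).preimage_mono hV))) ((lam U hU).app V s) :=
    fun s => by rw [app_prodRel, prodFam, app_res_frame hl₀ hV]
  exact ⟨fun a b h => h2.1 (h1.1 (((hc a).symm.trans (congrArg _ h)).trans (hc b))), fun z => by
    obtain ⟨q, hq⟩ := h1.2 ((lam' U hU).app V z)
    obtain ⟨s, rfl⟩ := h2.2 q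
    exact ⟨s, h3.1 ((hc s).trans hq)⟩⟩

include hP hF hF' hL in
theorem nonempty_iso (hgen : 𝒮.IsGenDegOne) : Nonempty (F' ≅ CohB1.tensorMod F L) := by
  let φ := H23.TensorDesc.desc (bilin hP hF hF' hL)
  haveI : IsIso φ := by
    refine H23.ModLoc.isIso_of_locally φ fun x => ?_
    obtain ⟨_, ⟨U, hU, rfl⟩, hxU, -⟩ := Y.isBasis_affineOpens.exists_subset_of_mem_open
      (Set.mem_univ (p x)) isOpen_univ
    let emb := RelProj.emb p chart U hU
    let 𝒟 := 𝒮.deg U hU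
    have hxr : x ∈ emb.opensRange := by rw [RelTildeX.opensRange_emb]; exact hxU
    obtain ⟨y, rfl⟩ := hxr
    obtain ⟨f, hf, hfy⟩ : ∃ f ∈ 𝒟 1, f ∉ y.asHomogeneousIdeal := by
      by_contra! hall
      exact y.not_irrelevant_le (show ((𝒟)₊).toIdeal ≤ y.asHomogeneousIdeal.toIdeal from
        RelTildeX.irrelevant_eq_span_deg_one hgen U hU ▸ Ideal.span_le.mpr hall)
    let W₀ := emb ''ᵁ Proj.basicOpen 𝒟 f
    have hW₀ : W₀ ≤ p ⁻¹ᵁ U := (emb.image_le_opensRange _).trans (RelTildeX.opensRange_emb p chart U hU).le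
    have hnv : ∀ (k : ℕ) (z : (emb ⁻¹ᵁ W₀ : _)), f ^ k ∉ z.1.asHomogeneousIdeal := fun k z h => by
      have hz : z.1 ∈ Proj.basicOpen 𝒟 f := by rw [← emb.preimage_image_eq (Proj.basicOpen 𝒟 f)]; exact z.2
      exact hz (z.1.isPrime.mem_of_pow_mem k h)
    let fr : GrTwistX.UnitFrac (𝒜 := 𝒟) n (emb ⁻¹ᵁ W₀) :=
      { i := n.toNat, j := (-n).toNat, num := f ^ n.toNat, den := f ^ (-n).toNat
        num_mem := by simpa using SetLike.pow_mem_graded n.toNat hf
        den_mem := by simpa using SetLike.pow_mem_graded (-n).toNat hf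
        deg := by omega, num_ne := hnv _, den_ne := hnv _ }
    obtain ⟨l₀, hl₀⟩ := (hL.bijective U hU W₀ hW₀).2 (GrTwistX.fracSect fr)
    have hframe : InvX.IsFrame l₀ := isFrame_of_frac hL hW₀ hl₀
    refine ⟨W₀, ⟨y, hfy, rfl⟩, Scheme.Modules.Hom.isIso_iff_isIso_app.2 fun V' =>
      (ConcreteCategory.isIso_iff_bijective _).2 ?_⟩
    show Function.Bijective (φ.app (W₀.ι ''ᵁ V'))
    have hV : W₀.ι ''ᵁ V' ≤ W₀ := W₀.ι_image_le V'
    have hmul := bijective_prodRel hP hF hF' hL hW₀ hl₀ hV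
    refine (Function.Bijective.of_comp_iff _ (H28.Box.bijective_tmul_frame (N := F) (hframe.res hV))).1 ?_
    convert hmul using 1
    funext s
    exact H23.TensorDesc.desc_tmul (bilin hP hF hF' hL) _ _ _
  obtain ⟨c⟩ := H23.PicMul.comm F L
  exact ⟨(asIso φ).symm ≪≫ c.symm⟩

end Groth.Agent.RelTensor16
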