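import Groth.Agent.GrModX.Stalk
import Groth.Agent.GrTwistX.Triv
import Groth.Prelude.Def_RelProj3

/-!
# Products of sections of `O(a)` and of `M(b)~`
-/

set_option autoImplicit false
set_option backward.isDefEq.respectTransparency false
set_option backward.isDefEq.respectTransparency.types false
set_option linter.unusedSectionVars false

universe u

open CategoryTheory AlgebraicGeometry TopologicalSpace DirectSum Opposite

noncomputable section

namespace Groth.Agent.RelTensor16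

open Groth.Agent GrModX

variable {A σ : Type u} [CommRing A] [SetLike σ A] [AddSubgroupClass σ A] (𝒜 : ℕ → σ) [GradedRing 𝒜]
variable {M τ : Type u} [AddCommGroup M] [Module A M] [SetLike τ M] [AddSubgroupClass τ M] (ℳ : ℕ → τ)
variable [SetLike.GradedSMul 𝒜 ℳ]

/-- The product of a degree `a` fraction and a section of `M(b)~`. -/
def mulSect {a b c : ℤ} (h : a + b = c) {V : (Proj 𝒜).Opens} (l : Γ(GrTwist.twist 𝒜 a, V))
    (s : Γ(GrMod.tilde 𝒜 ℳ b, V)) : Γ(GrMod.tilde 𝒜 ℳ c, V) :=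
  show GrMod.sect 𝒜 ℳ c (op V) from
    ⟨fun x => ⟨GrTwist.val l x • GrMod.val s x, by
      obtain ⟨V₁, hx₁, i₁, d₁, e₁, ⟨f, hf⟩, ⟨t, ht⟩, hn₁, hd₁, h₁⟩ :=
        (l : GrTwist.sectN (𝒜 := 𝒜) a (op V)).2 x
      obtain ⟨V₂, hx₂, i₂, d₂, e₂, ⟨m, hm⟩, ⟨u, hu⟩, hn₂, hd₂, h₂⟩ :=
        (s : GrMod.sect 𝒜 ℳ b (op V)).2 x
      rw [show GrTwist.val l x = _ from h₁ ⟨x.1, hx₁⟩, show GrMod.val s x = _ from h₂ ⟨x.1, hx₂⟩]
      erw [LocalizedModule.mk_smul_mk]
      refine mk_mem_tildeAt 𝒜 ℳ c x.1 (s := t * u) (SetLike.mul_mem_graded ht hu) _ ?_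
      rcases hd₁ with h' | h'
      · exact ((deg_of_pred ℳ hm hd₂).smul 𝒜 hf).congr (by push_cast; omega)
      · exact Or.inl (show f • m = 0 by rw [show f = 0 from h', zero_smul])⟩, fun x => by
      obtain ⟨V₁, hx₁, i₁, d₁, e₁, ⟨f, hf⟩, ⟨t, ht⟩, hn₁, hd₁, h₁⟩ :=
        (l : GrTwist.sectN (𝒜 := 𝒜) a (op V)).2 x
      obtain ⟨V₂, hx₂, i₂, d₂, e₂, ⟨m, hm⟩, ⟨u, hu⟩, hn₂, hd₂, h₂⟩ :=
        (s : GrMod.sect 𝒜 ℳ b (op V)).2 x
      refine ⟨V₁ ⊓ V₂, ⟨hx₁, hx₂⟩, Opens.infLELeft _ _ ≫ i₁, d₁ + d₂, e₁ + e₂,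
        ⟨f • m, SetLike.GradedSMul.smul_mem hf hm⟩, ⟨t * u, SetLike.mul_mem_graded ht hu⟩,
        fun y hy => (y.1.isPrime.mem_or_mem hy).elim (hn₁ ⟨y.1, y.2.1⟩) (hn₂ ⟨y.1, y.2.2⟩), ?_, fun y => ?_⟩
      · rcases hd₁ with h' | h'
        · rcases hd₂ with h'' | h''
          · exact Or.inl (by push_cast; omega)
          · exact Or.inr (show f • m = 0 by rw [show m = 0 from h'', smul_zero])
        · exact Or.inr (show f • m = 0 by rw [show f = 0 from h', zero_smul])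
      · show GrTwist.val l _ • GrMod.val s _ = _
        erw [show GrTwist.val l ⟨y.1, i₁.le y.2.1⟩ = _ from h₁ ⟨y.1, y.2.1⟩,
          show GrMod.val s ⟨y.1, i₁.le y.2.1⟩ = _ from h₂ ⟨y.1, y.2.2⟩, LocalizedModule.mk_smul_mk]
        rfl⟩

lemma val_mulSect {a b c : ℤ} (h : a + b = c) {V : (Proj 𝒜).Opens} (l : Γ(GrTwist.twist 𝒜 a, V))
    (s : Γ(GrMod.tilde 𝒜 ℳ b, V)) (x : V) :
    GrMod.val (mulSect 𝒜 ℳ h l s) x = GrTwist.val l x • GrMod.val s x := rfl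

/-- The inverse fraction. -/
def invFrac {m : ℤ} {V : Opens (ProjectiveSpectrum.top 𝒜)} (φ : GrTwistX.UnitFrac (𝒜 := 𝒜) m V) :
    GrTwistX.UnitFrac (𝒜 := 𝒜) (-m) V where
  i := φ.j
  j := φ.i
  num := φ.den
  den := φ.num
  num_mem := φ.den_mem
  den_mem := φ.num_mem
  deg := by have := φ.deg; omega
  num_ne := φ.den_ne
  den_ne := φ.num_ne

/-- Multiplication by an invertible fraction is bijective. -/
theorem bijective_mulSect {a b c : ℤ} (h : a + b = c) {V : (Proj 𝒜).Opens}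
    (φ : GrTwistX.UnitFrac (𝒜 := 𝒜) a V) :
    Function.Bijective (fun s : Γ(GrMod.tilde 𝒜 ℳ b, V) => mulSect 𝒜 ℳ h (GrTwistX.fracSect φ) s) := by
  have h' : -a + c = b := by omega
  have hinv : ∀ y : V, GrTwist.val (V := V) (GrTwistX.fracSect φ) y *
      GrTwist.val (V := V) (GrTwistX.fracSect (invFrac 𝒜 φ)) y = 1 := fun y => by
    show Localization.mk φ.num ⟨φ.den, φ.den_ne y⟩ * Localization.mk φ.den ⟨φ.num, φ.num_ne y⟩ = 1
    rw [Localization.mk_mul, ← Localization.mk_one, Localization.mk_eq_mk_iff, Localization.r_iff_exists]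
    exact ⟨1, by simp [mul_comm]⟩
  refine Function.bijective_iff_has_inverse.2 ⟨fun t => mulSect 𝒜 ℳ h' (GrTwistX.fracSect (invFrac 𝒜 φ)) t,
    fun s => ext_val 𝒜 ℳ fun y => ?_, fun t => ext_val 𝒜 ℳ fun y => ?_⟩
  · rw [val_mulSect, val_mulSect, smul_smul, mul_comm, hinv, one_smul]
  · rw [val_mulSect, val_mulSect, smul_smul, hinv, one_smul]

variable {B σ' : Type u} [CommRing B] [SetLike σ' B] [AddSubgroupClass σ' B] {ℬ : ℕ → σ'} [GradedRing ℬ]
variable {N τ' : Type u} [AddCommGroup N] [Module B N] [SetLike τ' N] [AddSubgroupClass τ' N]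

lemma locModMap_smul (ψ : 𝒜 →+*ᵍ ℬ) (hψ : HomogeneousIdeal.irrelevant ℬ ≤ (HomogeneousIdeal.irrelevant 𝒜).map ψ)
    (v : M →ₛₗ[ψ.toRingHom] N) (y : ProjectiveSpectrum ℬ)
    (c : GrTwist.Loc 𝒜 (ProjectiveSpectrum.comap ψ hψ y))
    (q : GrMod.LocMod 𝒜 (M := M) (ProjectiveSpectrum.comap ψ hψ y)) :
    GrMod.locModMap ψ hψ v y (c • q) = GrTwist.locMap ψ hψ y c • GrMod.locModMap ψ hψ v y q := by
  induction c using Localization.induction_on with
  | H z =>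
    induction q using LocalizedModule.induction_on with
    | h m s =>
      erw [LocalizedModule.mk_smul_mk, GrTwist.locMap_mk]
      show GrMod.locModFun ψ hψ v y _ = _ • GrMod.locModFun ψ hψ v y _
      simp only [GrMod.locModFun]
      erw [LocalizedModule.mk_smul_mk, LinearMap.map_smulₛₗ]
      congr 1
      exact Subtype.ext (map_mul ψ _ _)

end Groth.Agent.RelTensor16
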